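import Mathlib
import Groth.Prelude.Def_SGA1

/-!
# Kummer algebras with invertible exponents and unit (or trivial) equations are étale (helper9)

`R[T_1, …, T_r]/(T_j^{n_j} - u_j)` is étale over `R` as soon as every `n_j ≥ 1` is invertible in `R`
and, for every `j`, either `n_j = 1` or `u_j` is a unit.
(The Jacobian computation is adapted from helper99's `S2921.etale_part`.)
-/

universe u

open MvPolynomial

namespace Groth.Agent.Lib.Helper9.KummerTame

set_option linter.unusedSectionVars false

variable {R : Type u} [CommRing R] {r : ℕ} (f : Fin r → R) (n : Fin r → ℕ)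

/-- The class of the variable `T_i`. -/
noncomputable def T (i : Fin r) : SGA1.kummerAlg R f n :=
  (Ideal.Quotient.mk _ (X i) : SGA1.kummerAlg R f n)

theorem algebraMap_eq_mk_C (a : R) :
    algebraMap R (SGA1.kummerAlg R f n) a = (Ideal.Quotient.mk _ (C a) : SGA1.kummerAlg R f n) :=
  rfl

theorem T_pow (i : Fin r) : T f n i ^ n i = algebraMap R (SGA1.kummerAlg R f n) (f i) := by
  unfold T
  rw [algebraMap_eq_mk_C, ← map_pow, ← sub_eq_zero, ← map_sub, Ideal.Quotient.eq_zero_iff_mem]
  exact Ideal.subset_span ⟨i, rfl⟩

/-- A property of all elements of the Kummer algebra follows from the generators. -/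
theorem kummer_induction {p : SGA1.kummerAlg R f n → Prop}
    (hC : ∀ a : R, p (algebraMap R _ a)) (hadd : ∀ x y, p x → p y → p (x + y))
    (hmul : ∀ x (j : Fin r), p x → p (x * T f n j)) (x : SGA1.kummerAlg R f n) : p x := by
  obtain ⟨P, rfl⟩ := Ideal.Quotient.mk_surjective x
  induction P using MvPolynomial.induction_on with
  | C a => exact hC a
  | add P Q hP hQ =>
    rw [map_add]
    exact hadd _ _ hP hQ
  | mul_X P j hP =>
    rw [map_mul]
    exact hmul _ j hP

set_option maxHeartbeats 1000000 in
theorem etale_kummerAlg (hn1 : ∀ j, 1 ≤ n j) (hn : ∀ j, IsUnit ((n j : ℕ) : R))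
    (hu : ∀ j, n j = 1 ∨ IsUnit (f j)) : Algebra.Etale R (SGA1.kummerAlg R f n) := by
  classical
  let P0 : Algebra.Presentation R (SGA1.kummerAlg R f n) (Fin r) (Fin r) :=
    Algebra.Presentation.naive (v := fun i => (X i : MvPolynomial (Fin r) R) ^ n i - C (f i))
  let P : Algebra.PreSubmersivePresentation R (SGA1.kummerAlg R f n) (Fin r) (Fin r) :=
    { toPresentation := P0, map := id, map_inj := Function.injective_id }
  have hjac : P.jacobian = (Ideal.Quotient.mk _
      (∏ i, (C ((n i : ℕ) : R) * X i ^ (n i - 1))) : SGA1.kummerAlg R f n) := by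
    rw [Algebra.PreSubmersivePresentation.jacobian_eq_jacobiMatrix_det]
    have hM : P.jacobiMatrix = Matrix.diagonal
        (fun i => (C ((n i : ℕ) : R) * X i ^ (n i - 1) : MvPolynomial (Fin r) R)) := by
      apply Matrix.ext
      intro i j
      rw [Algebra.PreSubmersivePresentation.jacobiMatrix_apply]
      show pderiv i ((X j : MvPolynomial (Fin r) R) ^ n j - C (f j)) = _
      rw [Matrix.diagonal_apply]
      by_cases hij : i = j
      · subst hij
        simp [Derivation.leibniz_pow]
      · have hji : j ≠ i := fun h => hij h.symm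
        simp [Derivation.leibniz_pow, pderiv_X_of_ne hji, hij]
    rw [hM, Matrix.det_diagonal]
    rfl
  have hTunit : ∀ i, IsUnit (T f n i ^ (n i - 1)) := by
    intro i
    rcases hu i with h1 | hfu
    · rw [h1, Nat.sub_self, pow_zero]
      exact isUnit_one
    · have h2 : IsUnit (T f n i ^ n i) := by
        rw [T_pow]
        exact hfu.map _
      have h3 : IsUnit (T f n i) := (isUnit_pow_iff (by have := hn1 i; omega)).mp h2
      exact h3.pow _
  have hJu : IsUnit P.jacobian := by
    rw [hjac, map_prod, IsUnit.prod_univ_iff]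
    intro i
    rw [map_mul, map_pow]
    exact ((hn i).map (algebraMap R (SGA1.kummerAlg R f n))).mul (hTunit i)
  let Q : Algebra.SubmersivePresentation R (SGA1.kummerAlg R f n) (Fin r) (Fin r) :=
    { toPreSubmersivePresentation := P
      jacobian_isUnit := hJu }
  haveI hss : Algebra.IsStandardSmoothOfRelativeDimension 0 R (SGA1.kummerAlg R f n) :=
    Q.isStandardSmoothOfRelativeDimension (by
      show Nat.card _ - Nat.card _ = 0
      exact Nat.sub_self _)
  infer_instance

end Groth.Agent.Lib.Helper9.KummerTame
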