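import Mathlib
import Groth.Prelude.Def_SGA1
import Groth.Prelude.Def_EtRam
import Groth.Agent.Lib.Helper9.KummerTame.Etale
import Groth.Agent.Lib.Helper9.EtaleLocalDVR
import Groth.Agent.Lib.Helper9.Kummer
import Groth.Agent.Lib.Helper9.TameBase
import Groth.Agent.Lib.Helper9.SepRes

/-!
# Kummer algebras are tamely ramified along their branch divisors (helper9)
-/

universe u

open MvPolynomial IsLocalRing EtRam

namespace Groth.Agent.Lib.Helper9.KummerTame

open Groth.Agent.Lib.Helper9

set_option linter.unusedSectionVars false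

section Loc

variable {A : Type u} [CommRing A] [IsDomain A] [IsNoetherianRing A]

/-- the localization of a Noetherian domain at a nonzero principal prime is a DVR. -/
theorem isDVR_localization_principal (a : A) [(Ideal.span {a}).IsPrime] (ha : a ≠ 0) :
    IsDiscreteValuationRing (Localization.AtPrime (Ideal.span {a})) ∧
      Irreducible (algebraMap A (Localization.AtPrime (Ideal.span {a})) a) := by
  have hinj : Function.Injective (algebraMap A (Localization.AtPrime (Ideal.span {a}))) :=
    IsLocalization.injective _ (Ideal.primeCompl_le_nonZeroDivisors (Ideal.span {a}))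
  have hmax : maximalIdeal (Localization.AtPrime (Ideal.span {a})) =
      Ideal.span {algebraMap A (Localization.AtPrime (Ideal.span {a})) a} := by
    rw [← Localization.AtPrime.map_eq_maximalIdeal, Ideal.map_span, Set.image_singleton]
  have hne : algebraMap A (Localization.AtPrime (Ideal.span {a})) a ≠ 0 := by
    intro h
    exact ha (hinj (by rw [h, map_zero]))
  have hnf : ¬ IsField (Localization.AtPrime (Ideal.span {a})) := by
    rw [IsLocalRing.isField_iff_maximalIdeal_eq, hmax, Ideal.span_singleton_eq_bot]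
    exact hne
  haveI : IsNoetherianRing (Localization.AtPrime (Ideal.span {a})) :=
    IsLocalization.isNoetherianRing (Ideal.span {a}).primeCompl _ inferInstance
  have hdvr : IsDiscreteValuationRing (Localization.AtPrime (Ideal.span {a})) := by
    refine ((IsDiscreteValuationRing.TFAE _ hnf).out 0 4).mpr ?_
    rw [hmax]
    exact ⟨⟨_, rfl⟩⟩
  refine ⟨hdvr, ?_⟩
  haveI := hdvr
  exact (IsDiscreteValuationRing.irreducible_iff_uniformizer _).mpr hmax

end Loc

section Generic

variable {A : Type u} [CommRing A] [IsDomain A] {B : Type u} [CommRing B]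

theorem genericResidueMap_algebraMap (φ : A →+* B) (P : Ideal A) [P.IsPrime] (q : Ideal B)
    [q.IsPrime] (hq : Ideal.comap φ q = ⊥) (a : A) :
    SGA1.genericResidueMap φ P q hq (algebraMap A (Localization.AtPrime P) a) =
      algebraMap B q.ResidueField (φ a) := by
  unfold SGA1.genericResidueMap
  rw [IsLocalization.lift_eq]
  rfl

theorem genericResidueMap_injective (φ : A →+* B) (P : Ideal A) [P.IsPrime] (q : Ideal B)
    [q.IsPrime] (hq : Ideal.comap φ q = ⊥) :
    Function.Injective (SGA1.genericResidueMap φ P q hq) := by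
  have h0 : Function.Injective ((algebraMap B q.ResidueField).comp φ) := by
    rw [injective_iff_map_eq_zero]
    intro a ha
    rw [RingHom.comp_apply, ← RingHom.mem_ker, Ideal.ker_algebraMap_residueField] at ha
    have h1 : a ∈ Ideal.comap φ q := ha
    rw [hq, Ideal.mem_bot] at h1
    exact h1
  have hinj : Function.Injective (algebraMap A (Localization.AtPrime P)) :=
    IsLocalization.injective _ (Ideal.primeCompl_le_nonZeroDivisors P)
  unfold SGA1.genericResidueMap
  rw [IsLocalization.lift_injective_iff]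
  intro x y
  constructor
  · intro h
    rw [hinj h]
  · intro h
    rw [h0 h]

end Generic

section Aux

set_option maxHeartbeats 4000000 in
/-- The core statement, over an abstract DVR `Ai` receiving `A`. -/
theorem tame_aux {A : Type u} [CommRing A] {r : ℕ} (f : Fin r → A) (n : Fin r → ℕ)
    (hn : ∀ j, 1 ≤ n j)
    (Ai : Type u) [CommRing Ai] [IsDomain Ai] [IsDiscreteValuationRing Ai] [Algebra A Ai]
    (i : Fin r) (hϖ : Irreducible (algebraMap A Ai (f i)))
    (hfu : ∀ j, j ≠ i → IsUnit (algebraMap A Ai (f j)))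
    (hnu : ∀ j, IsUnit ((n j : ℕ) : Ai))
    {L : Type u} [Field L] (ψ : SGA1.kummerAlg A f n →+* L) (g : Ai →+* L)
    (hgψ : ∀ a : A, g (algebraMap A Ai a) = ψ (algebraMap A (SGA1.kummerAlg A f n) a))
    (hginj : Function.Injective g)
    (hgenL : ∀ E : Subfield L, (∀ b, ψ b ∈ E) → E = ⊤) :
    EtRam.IsTamelyRamified Ai g := by
  classical
  intro V hdom hloc
  letI algAiV : Algebra Ai V := (RingHom.codRestrict g V hdom.1).toAlgebra
  show Algebra.IsSeparable (ResidueField Ai) (ResidueField V) ∧
    ∀ p : ℕ, p.Prime → CharP (ResidueField Ai) p →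
      ¬ p ∣ Ideal.ramificationIdx' (maximalIdeal Ai) (maximalIdeal V)
  obtain ⟨ιV, hιV⟩ : ∃ ιV : Ai →+* V, ιV = RingHom.codRestrict g V hdom.1 := ⟨_, rfl⟩
  have hιVg : ∀ a, ((ιV a : V) : L) = g a := by
    intro a
    rw [hιV]
    rfl
  have halg : algebraMap Ai V = ιV := by
    rw [hιV]
    rfl
  haveI hlocι : IsLocalHom ιV := by
    rw [← halg]
    exact hloc
  have hιinj : Function.Injective ιV := by
    intro a b hab
    apply hginj
    rw [← hιVg, ← hιVg, hab]
  -- the elements `t_j`
  obtain ⟨t, ht⟩ : ∃ t : Fin r → L, t = fun j => ψ (T f n j) := ⟨_, rfl⟩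
  have htpow : ∀ j, t j ^ n j = g (algebraMap A Ai (f j)) := by
    intro j
    rw [hgψ, ← T_pow, map_pow, ht]
  have htmem : ∀ j, t j ∈ V := by
    intro j
    have h1 : t j ^ n j ∈ V := by
      rw [htpow]
      exact hdom.1 _
    have h2 : V.valuation (t j ^ n j) ≤ 1 := (V.valuation_le_one_iff _).mpr h1
    rw [map_pow] at h2
    have h3 : V.valuation (t j) ≤ 1 := by
      by_contra hlt
      push Not at hlt
      exact absurd h2 (not_le.mpr (one_lt_pow₀ hlt (by have := hn j; omega)))
    exact (V.valuation_le_one_iff _).mp h3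
  -- the étale algebra `C`
  obtain ⟨u, hu⟩ : ∃ u : Fin r → Ai, u = fun j => algebraMap A Ai (f j) := ⟨_, rfl⟩
  obtain ⟨m, hm⟩ : ∃ m : Fin r → ℕ, m = Function.update n i 1 := ⟨_, rfl⟩
  have hmi : m i = 1 := by rw [hm, Function.update_self]
  have hmj : ∀ j, j ≠ i → m j = n j := fun j hj => by rw [hm, Function.update_of_ne hj]
  have hm1 : ∀ j, 1 ≤ m j := by
    intro j
    by_cases hj : j = i
    · rw [hj, hmi]
    · rw [hmj j hj]
      exact hn j
  have hmu : ∀ j, IsUnit ((m j : ℕ) : Ai) := by
    intro j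
    by_cases hj : j = i
    · rw [hj, hmi, Nat.cast_one]
      exact isUnit_one
    · rw [hmj j hj]
      exact hnu j
  have hmu' : ∀ j, m j = 1 ∨ IsUnit (u j) := by
    intro j
    by_cases hj : j = i
    · left
      rw [hj, hmi]
    · right
      rw [hu]
      exact hfu j hj
  haveI hCet : Algebra.Etale Ai (SGA1.kummerAlg Ai u m) := etale_kummerAlg u m hm1 hmu hmu'
  obtain ⟨s, hs⟩ : ∃ s : Fin r → V,
      s = Function.update (fun j => (⟨t j, htmem j⟩ : V)) i (ιV (algebraMap A Ai (f i))) :=
    ⟨_, rfl⟩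
  have hsi : s i = ιV (algebraMap A Ai (f i)) := by rw [hs, Function.update_self]
  have hsj : ∀ j, j ≠ i → ((s j : V) : L) = t j := fun j hj => by
    rw [hs, Function.update_of_ne hj]
  have hspow : ∀ j, s j ^ m j = ιV (u j) := by
    intro j
    by_cases hj : j = i
    · rw [hj, hmi, pow_one, hsi, hu]
    · apply Subtype.ext
      rw [hmj j hj, hιVg, hu]
      show ((s j : V) : L) ^ n j = _
      rw [hsj j hj, htpow]
  obtain ⟨φ, hφC, hφT⟩ : ∃ φ : SGA1.kummerAlg Ai u m →+* V,
      (∀ v, φ (algebraMap Ai (SGA1.kummerAlg Ai u m) v) = ιV v) ∧ ∀ j, φ (T u m j) = s j := by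
    have hle : Ideal.span (Set.range fun j => (X j : MvPolynomial (Fin r) Ai) ^ m j - C (u j)) ≤
        RingHom.ker (MvPolynomial.eval₂Hom ιV s) := by
      rw [Ideal.span_le]
      rintro _ ⟨j, rfl⟩
      rw [SetLike.mem_coe, RingHom.mem_ker, map_sub, map_pow, eval₂Hom_X', eval₂Hom_C, hspow,
        sub_self]
    refine ⟨Ideal.Quotient.lift _ (MvPolynomial.eval₂Hom ιV s)
      (fun P hP => RingHom.mem_ker.mp (hle hP)), fun v => ?_, fun j => ?_⟩
    · rw [algebraMap_eq_mk_C, Ideal.Quotient.lift_mk, eval₂Hom_C]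
    · unfold T
      rw [Ideal.Quotient.lift_mk, eval₂Hom_X']
  obtain ⟨D, instD1, instD2, instD3, instD4, instD5, instD6, χ, instD7, instD8, hϖD, hsepD, hχinj,
      hχ, -⟩ := EtaleLocalDVR.exists_local_dvr Ai (SGA1.kummerAlg Ai u m) V ιV hιinj φ hφC hϖ
  have hχA : ∀ v : Ai, χ (algebraMap Ai D v) = ιV v := by
    intro v
    rw [IsScalarTower.algebraMap_apply Ai (SGA1.kummerAlg Ai u m) D, hχ, hφC]
  have hz : t i ^ (1 * n i) = ((χ ((1 : Dˣ) : D) : V) : L) *
      ((χ (algebraMap Ai D (algebraMap A Ai (f i))) : V) : L) ^ (1 * 1) := by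
    rw [one_mul, one_mul, pow_one, Units.val_one, map_one, hχA, htpow, hιVg]
    show _ = (1 : L) * _
    rw [one_mul]
  have hgen : ∀ E : Subfield L, (∀ d, ((χ d : V) : L) ∈ E) → t i ∈ E → E = ⊤ := by
    intro E hE1 hE2
    apply hgenL
    have hEA : ∀ a : A, ψ (algebraMap A (SGA1.kummerAlg A f n) a) ∈ E := by
      intro a
      rw [← hgψ, ← hιVg, ← hχA]
      exact hE1 _
    have hEt : ∀ j, t j ∈ E := by
      intro j
      by_cases hj : j = i
      · rw [hj]
        exact hE2
      · have h1 := hE1 (algebraMap (SGA1.kummerAlg Ai u m) D (T u m j))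
        rw [hχ, hφT, hsj j hj] at h1
        exact h1
    refine kummer_induction f n (p := fun b => ψ b ∈ E) hEA
      (fun x y hx hy => ?_) (fun x j hx => ?_)
    · show ψ (x + y) ∈ E
      rw [map_add]
      exact add_mem hx hy
    · show ψ (x * T f n j) ∈ E
      rw [map_mul]
      refine mul_mem hx ?_
      have := hEt j
      rw [ht] at this
      exact this
  obtain ⟨hdvrV, hsepχ, τ, y₁, y₂, hτ, hτpow, -⟩ :=
    Kummer.kummer_structure D V χ hχinj hϖD (1 : Dˣ) (t i) 1 (n i) 1 one_pos (hn i) one_pos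
      (Nat.coprime_one_right _) (by rw [Nat.cast_one]; exact one_ne_zero) hz hgen
  haveI := hdvrV
  have hcomp : χ.comp (algebraMap Ai D) = algebraMap Ai V := by
    rw [halg]
    exact RingHom.ext hχA
  have hinjAV : Function.Injective (algebraMap Ai V) := by
    rw [halg]
    exact hιinj
  constructor
  · rw [← SepRes.iff_isSeparable]
    exact Kummer.SepRes.congr hcomp (hsepD.comp _ _ hsepχ)
  · intro p hp hchar hdvd
    obtain ⟨he0, w, hw⟩ := TameBase.exists_eq_unit_mul_pow (A := Ai) (V := V) hinjAV hϖ hτ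
    have h1 : (w : V) * τ ^ (Ideal.ramificationIdx' (maximalIdeal Ai) (maximalIdeal V)) =
        y₁ * τ ^ n i := by
      rw [← hw, ← hτpow, hχA, halg]
    have h2 := IsDiscreteValuationRing.unit_mul_pow_congr_pow hτ hτ w y₁ _ _ h1
    rw [h2] at hdvd
    have h3 : IsUnit ((n i : ℕ) : ResidueField Ai) := by
      have := (hnu i).map (IsLocalRing.residue Ai)
      rwa [map_natCast] at this
    haveI := hchar
    exact h3.ne_zero ((CharP.cast_eq_zero_iff (ResidueField Ai) p (n i)).mpr hdvd)

end Aux

section Main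

variable (A : Type u) [CommRing A] [IsDomain A] [IsNoetherianRing A]

set_option maxHeartbeats 2000000 in
/-- **Kummer algebras are tame along their branch divisors.** -/
theorem tame_kummer {r : ℕ} (f : Fin r → A) [∀ i, (Ideal.span {f i}).IsPrime]
    (hf0 : ∀ i, f i ≠ 0) (hne : ∀ i j, j ≠ i → f j ∉ Ideal.span {f i})
    (n : Fin r → ℕ) (hn : ∀ i, 1 ≤ n i) (hu : ∀ i, IsUnit ((n i : ℕ) : A)) :
    SGA1.IsTameAlong f (algebraMap A (SGA1.kummerAlg A f n)) := by
  classical
  intro i q hqp hq
  obtain ⟨hdvrAi, hϖ⟩ := isDVR_localization_principal (f i) (hf0 i)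
  haveI := hdvrAi
  refine tame_aux f n hn (Localization.AtPrime (Ideal.span {f i})) i hϖ ?_ ?_
    (algebraMap (SGA1.kummerAlg A f n) q.ResidueField) _ ?_ ?_ ?_
  · intro j hj
    exact IsLocalization.map_units (Localization.AtPrime (Ideal.span {f i}))
      (⟨f j, hne i j hj⟩ : (Ideal.span {f i}).primeCompl)
  · intro j
    have := (hu j).map (algebraMap A (Localization.AtPrime (Ideal.span {f i})))
    rwa [map_natCast] at this
  · intro a
    exact genericResidueMap_algebraMap _ _ q hq a
  · exact genericResidueMap_injective _ _ q hq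
  · intro E hE
    rw [eq_top_iff]
    intro x _
    obtain ⟨a, b, -, rfl⟩ := IsFractionRing.div_surjective (A := SGA1.kummerAlg A f n ⧸ q) x
    obtain ⟨a', rfl⟩ := Ideal.Quotient.mk_surjective a
    obtain ⟨b', rfl⟩ := Ideal.Quotient.mk_surjective b
    have h1 : ∀ c : SGA1.kummerAlg A f n,
        algebraMap (SGA1.kummerAlg A f n ⧸ q) q.ResidueField (Ideal.Quotient.mk q c) =
          algebraMap (SGA1.kummerAlg A f n) q.ResidueField c := fun c => rfl
    rw [h1, h1]
    exact div_mem (hE a') (hE b')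

end Main

end Groth.Agent.Lib.Helper9.KummerTame
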